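import Cfsg.Agent.Lib.ThCent.ClassChecks

/-!
The involutions of `P` conjugate in the Thompson group to the first generator: the class of that
generator, and at least 34580 further ones.
-/

set_option autoImplicit false
set_option maxRecDepth 20000

namespace Cfsg.Agent.Lib.ThCent

open Cfsg.Agent.Lib.CosetEnum Cfsg.Agent.Lib.ExactCover
open Cfsg.Agent.Lib.ThDce (okP okP_iff pEq el el_append el_invWord el_eq_toTh el_nil pEq_val pEq_el wd
  val_append val_invWord okP_append okP_invWord el_rel relW)

/-- The fixed points of an element among the 819. -/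
noncomputable def fixSet (y : ThP.P) : Finset (Fin 819) := Finset.univ.filter fun x => ThP.act y x = x

theorem card_fix_word {l : List ℕ} (hl : okP l = true) {n : ℕ}
    (h : Nat.beq ((List.range 819).countP fun x => Nat.beq (scan 14 ThP.table l x) x) n = true) :
    (fixSet (ThP.val l)).card = n := by
  rw [Nat.beq_eq] at h
  rw [← h]
  have key : ∀ m, (List.range m).countP (fun x => Nat.beq (scan 14 ThP.table l x) x) =
      ((Finset.range m).filter fun x => Nat.beq (scan 14 ThP.table l x) x = true).card := by
    intro m
    induction m with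
    | zero => simp
    | succ m ih =>
      rw [List.range_succ, List.countP_append, ih, Finset.range_add_one, Finset.filter_insert]
      by_cases hp : Nat.beq (scan 14 ThP.table l m) m = true <;> simp [hp]
  rw [key]
  have e : ∀ x : Fin 819, ThP.act (ThP.val l) x = x ↔ scan 14 ThP.table l x.1 = x.1 := by
    intro x
    rw [← ThP.act_word l (okP_iff.1 hl) x, ← Fin.ext_iff, Equiv.Perm.inv_def, Equiv.symm_apply_eq, eq_comm]
  refine Finset.card_bij (fun c _ => c.1) (fun c hc => ?_) (fun c _ d _ e' => Fin.ext e') fun x hx => ?_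
  · simp only [fixSet, Finset.mem_filter, Finset.mem_univ, true_and, e] at hc
    simp [hc, c.2]
  · simp only [Finset.mem_filter, Finset.mem_range, Nat.beq_eq] at hx
    exact ⟨⟨x, hx.1⟩, by simp [fixSet, e, hx.2], rfl⟩

theorem card_fix_conj (g y : ThP.P) : (fixSet (g * y * g⁻¹)).card = (fixSet y).card := by
  refine (Finset.card_equiv (ThP.act g) fun x => ?_).symm
  simp [fixSet, map_mul, Equiv.Perm.mul_apply]

theorem increasing_pairwise : ∀ {l : List ℕ}, increasing l = true → l.Pairwise (· < ·) := by
  intro l
  induction l with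
  | nil => intro _; exact List.Pairwise.nil
  | cons a l ih =>
    intro h
    cases l with
    | nil => simp
    | cons b l =>
      simp only [increasing, Bool.and_eq_true, Nat.blt_eq] at h
      have hp := ih h.2
      refine List.pairwise_cons.2 ⟨fun x hx => ?_, hp⟩
      rcases List.mem_cons.1 hx with rfl | hx
      · exact h.1
      · exact h.1.trans ((List.pairwise_cons.1 hp).1 x hx)

theorem base_lt : (ThP.Slp.base.all fun b => Nat.blt b 819) = true := by decide +kernel

theorem key_congr {u v : List ℕ} (hu : okP u = true) (hv : okP v = true) (h : ThP.val u = ThP.val v) :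
    key u = key v := by
  have hs : ∀ b ∈ ThP.Slp.base, scan 14 ThP.table u b = scan 14 ThP.table v b := fun b hb => by
    have hb' := List.all_eq_true.1 base_lt b hb
    rw [Nat.blt_eq] at hb'
    rw [← ThP.act_word u (okP_iff.1 hu) ⟨b, hb'⟩, ← ThP.act_word v (okP_iff.1 hv) ⟨b, hb'⟩, h]
  unfold key
  revert hs
  generalize ThP.Slp.base = B
  intro hs
  induction B with
  | nil => rfl
  | cons b B ih =>
    rw [List.foldr_cons, List.foldr_cons, hs b List.mem_cons_self, ih fun x hx => hs x (List.mem_cons_of_mem _ hx)]

theorem okP_wW : okP wW = true := by decide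

theorem okP_yWord {h : List ℕ} (hh : okP h = true) : okP (yWord h) = true :=
  okP_append (okP_append (okP_invWord hh) okP_wW) hh

/-- A conjugating word. -/
noncomputable def hW (j : Fin 1140) : List ℕ := clsWords.getD j.1 []

theorem hW_spec (j : Fin 1140) : okP (hW j) = true ∧ scan 14 ThP.table (yWord (hW j)) 0 = 0 := by
  have hj : j.1 < clsWords.length := by rw [cls_len]; exact j.2
  have h := List.all_eq_true.1 cls_fix _ (List.getElem_mem hj)
  rw [Bool.and_eq_true, Nat.beq_eq] at h
  rwa [hW, List.getD_eq_getElem _ _ hj]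

/-- The conjugates. -/
noncomputable def yv (j : Fin 1140) : ThP.P := ThP.val (yWord (hW j))

theorem yv_inj : Function.Injective yv := by
  intro i j h
  have hk := key_congr (okP_yWord (hW_spec i).1) (okP_yWord (hW_spec j).1) h
  have hnd := (increasing_pairwise cls_distinct).imp (fun h => Nat.ne_of_lt h)
  have hi : i.1 < clsWords.length := by rw [cls_len]; exact i.2
  have hj : j.1 < clsWords.length := by rw [cls_len]; exact j.2
  refine Fin.ext ((List.Nodup.getElem_inj_iff (h := hnd) (i := i.1) (j := j.1)
    (hi := by rwa [List.length_map]) (hj := by rwa [List.length_map])).1 ?_)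
  rw [List.getElem_map, List.getElem_map]
  rwa [hW, List.getD_eq_getElem _ _ hi, hW, List.getD_eq_getElem _ _ hj] at hk

/-- The element of a transversal word. -/
noncomputable abbrev tv (b : Fin 819) : ThP.P := ThP.val (ThP.transWord b.1)

theorem act_tv (b : Fin 819) : ThP.act (tv b) b = ⟨0, by omega⟩ := by
  obtain ⟨hw, hs⟩ := ThP.transWord_spec b.1 b.2
  have h : (ThP.act (tv b))⁻¹ ⟨0, by omega⟩ = b := Fin.ext (by rw [ThP.act_word _ hw]; exact hs)
  rw [Equiv.Perm.inv_def, Equiv.symm_apply_eq] at h
  exact h.symm

/-- The class of the second involution in `P`. -/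
noncomputable def classB : Finset ThP.P :=
  haveI : Fintype ThP.P := Fintype.ofFinite _
  haveI := Classical.decEq ThP.P
  Finset.univ.image fun g => g * ThP.val wW * g⁻¹

theorem classB_card : 34580 ≤ classB.card := by
  classical
  haveI : Fintype ThP.P := Fintype.ofFinite _
  let f : Fin 819 × Fin 1140 → ThP.P := fun p => (tv p.1)⁻¹ * yv p.2 * tv p.1
  have hmem : ∀ p, f p ∈ classB := by
    intro p
    simp only [classB, Finset.mem_image, Finset.mem_univ, true_and]
    refine ⟨(tv p.1)⁻¹ * (ThP.val (hW p.2))⁻¹, ?_⟩
    simp only [f, yv, yWord, val_append, val_invWord _ (hW_spec p.2).1]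
    group
  have h := Finset.card_le_mul_card_image (f := f) (Finset.univ : Finset (Fin 819 × Fin 1140)) 27 ?_
  · have h' : (Finset.univ.image f).card ≤ classB.card := Finset.card_le_card fun y hy => by
      obtain ⟨p, -, rfl⟩ := Finset.mem_image.1 hy
      exact hmem p
    simp only [Finset.card_univ, Fintype.card_prod, Fintype.card_fin] at h
    omega
  intro y hy
  obtain ⟨p₀, -, rfl⟩ := Finset.mem_image.1 hy
  have h27 : (fixSet (f p₀)).card = 27 := by
    obtain ⟨g, hg⟩ : ∃ g, g * ThP.val wW * g⁻¹ = f p₀ := by
      simpa [classB] using hmem p₀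
    rw [← hg, card_fix_conj]
    exact card_fix_word okP_wW w_fix
  rw [← h27]
  refine Finset.card_le_card_of_injOn Prod.fst (fun p hp => ?_) ?_
  · simp only [Finset.coe_filter, Finset.mem_univ, true_and, Set.mem_setOf_eq] at hp
    rw [← hp]
    simp only [fixSet, Finset.coe_filter, Finset.mem_univ, true_and, Set.mem_setOf_eq, f, map_mul, map_inv,
      Equiv.Perm.mul_apply, act_tv]
    have h0 : ThP.act (yv p.2) (⟨0, by omega⟩ : Fin 819) = ⟨0, by omega⟩ :=
      (ThP.mem_subC_iff _).1 (ThP.val_mem_subC _ (okP_iff.1 (okP_yWord (hW_spec p.2).1)) (hW_spec p.2).2)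
    rw [h0, Equiv.Perm.inv_def, Equiv.symm_apply_eq, act_tv]
  · intro p hp q hq hpq
    simp only [Finset.coe_filter, Finset.mem_univ, true_and, Set.mem_setOf_eq] at hp hq
    have e := hp.trans hq.symm
    simp only [f, hpq] at e
    exact Prod.ext hpq (yv_inj (mul_left_cancel (mul_right_cancel e)))

/-- A transversal element, in the order of the conjugates. -/
noncomputable def ordV (j : Fin 819) : ThP.P := ThP.val (ThP.transWord (Data.zOrder.getD j.1 0))

/-- The class of the first generator in `P`. -/
noncomputable def classA : Finset ThP.P :=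
  haveI := Classical.decEq ThP.P
  Finset.univ.image fun j : Fin 819 => (ordV j)⁻¹ * ThP.val [0] * ordV j

theorem classA_fix {y : ThP.P} (hy : y ∈ classA) : (fixSet y).card = 19 := by
  simp only [classA, Finset.mem_image, Finset.mem_univ, true_and] at hy
  obtain ⟨b, rfl⟩ := hy
  rw [show (ordV b)⁻¹ * ThP.val [0] * ordV b = (ordV b)⁻¹ * ThP.val [0] * ((ordV b)⁻¹)⁻¹ by rw [inv_inv],
    card_fix_conj]
  exact card_fix_word rfl a_fix

theorem val_zWord {b : ℕ} (hb : b < 819) : okP (zWord b) = true ∧
    ThP.val (zWord b) = (ThP.val (ThP.transWord b))⁻¹ * ThP.val [0] * ThP.val (ThP.transWord b) := by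
  have h : okP (ThP.transWord b) = true := okP_iff.2 (ThP.transWord_spec b hb).1
  exact ⟨okP_append (okP_append (okP_invWord h) rfl) h, by rw [zWord, val_append, val_append, val_invWord _ h]⟩

theorem classB_fix {y : ThP.P} (hy : y ∈ classB) : (fixSet y).card = 27 := by
  simp only [classB, Finset.mem_image, Finset.mem_univ, true_and] at hy
  obtain ⟨g, rfl⟩ := hy
  rw [card_fix_conj]
  exact card_fix_word okP_wW w_fix

theorem class_disjoint : Disjoint classA classB := by
  rw [Finset.disjoint_left]
  intro y hA hB
  have := classA_fix hA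
  rw [classB_fix hB] at this
  omega

theorem subC_comm (k : ThP.P) (hk : k ∈ ThP.subC) : Commute (ThP.val [0]) k := by
  induction hk using Subgroup.closure_induction with
  | mem x hx =>
    obtain ⟨l, hl, rfl⟩ := hx
    simp only [ThP.Index.subWords, List.mem_cons, List.not_mem_nil, or_false] at hl
    have h := List.all_eq_true.1 comm_gens
    have key : ∀ g ∈ ([0, 4, 6, 8, 10, 12] : List ℕ), Commute (ThP.val [0]) (ThP.val [g]) := fun g hg => by
      have := pEq_val (h g hg)
      rwa [show ([0, g] : List ℕ) = [0] ++ [g] from rfl, show ([g, 0] : List ℕ) = [g] ++ [0] from rfl,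
        val_append, val_append] at this
    rcases hl with rfl | rfl | rfl | rfl | rfl | rfl <;> exact key _ (by simp)
  | one => exact Commute.one_right _
  | mul x y _ _ hx hy => exact hx.mul_right hy
  | inv x _ hx => exact hx.inv_right

/-- The elements of `P` conjugate to the involution in `P`, by transversal element. -/
theorem classA_card : classA.card = 819 := by
  classical
  rw [classA, Finset.card_image_of_injective, Finset.card_univ, Fintype.card_fin]
  intro i j h
  have hz := zOrder_ok
  simp only [Bool.and_eq_true, Nat.beq_eq, List.all_eq_true, Nat.blt_eq] at hz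
  have hi : i.1 < Data.zOrder.length := by rw [hz.1.1]; exact i.2
  have hj : j.1 < Data.zOrder.length := by rw [hz.1.1]; exact j.2
  simp only [ordV, List.getD_eq_getElem _ _ hi, List.getD_eq_getElem _ _ hj] at h
  obtain ⟨o1, e1⟩ := val_zWord (hz.1.2 _ (List.getElem_mem hi))
  obtain ⟨o2, e2⟩ := val_zWord (hz.1.2 _ (List.getElem_mem hj))
  have hk := key_congr o1 o2 (by rw [e1, e2]; exact h)
  have hnd := (increasing_pairwise hz.2).imp (fun h => Nat.ne_of_lt h)
  refine Fin.ext ((List.Nodup.getElem_inj_iff (h := hnd) (i := i.1) (j := j.1)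
    (hi := by rwa [List.length_map]) (hj := by rwa [List.length_map])).1 ?_)
  rw [List.getElem_map, List.getElem_map]
  exact hk

end Cfsg.Agent.Lib.ThCent
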