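import Cfsg.Agent.Lib.ThP.Order
import Cfsg.Agent.Lib.ThP.Trans
import Cfsg.Agent.Lib.ThDce.Words
import Cfsg.Agent.Lib.ThCent.Data

/-!
Checks on conjugates of one involution of `P` in the stabiliser of the point 0.
-/

set_option autoImplicit false
set_option maxRecDepth 40000

namespace Cfsg.Agent.Lib.ThCent

open Cfsg.Agent.Lib.CosetEnum Cfsg.Agent.Lib.ExactCover
open Cfsg.Agent.Lib.ThDce (okP pEq wd)

/-- The involution of the second class. -/
def wW : List ℕ := [8, 3, 5, 1, 2]

/-- A conjugate. -/
def yWord (h : List ℕ) : List ℕ := invWord h ++ wW ++ h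

/-- All conjugating words. -/
def clsWords : List (List ℕ) := Data.clsChunks.flatten.map wd

/-- The images of the base points, in one number. -/
noncomputable def key (l : List ℕ) : ℕ :=
  ThP.Slp.base.foldr (fun b acc => Nat.add (scan 14 ThP.table l b) (Nat.mul 1024 acc)) 0

/-- Strictly increasing. -/
def increasing : List ℕ → Bool
  | a :: b :: l => Nat.blt a b && increasing (b :: l)
  | _ => true

theorem cls_len : clsWords.length = 1140 := by decide +kernel

theorem cls_fix : (clsWords.all fun h => okP h && Nat.beq (scan 14 ThP.table (yWord h) 0) 0) = true := by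
  decide +kernel

theorem cls_distinct : increasing (clsWords.map fun h => key (yWord h)) = true := by decide +kernel

theorem w_fix : Nat.beq ((List.range 819).countP fun x => Nat.beq (scan 14 ThP.table wW x) x) 27 = true := by
  decide +kernel

/-- The word of a transversal element conjugating the involution. -/
noncomputable def zWord (b : ℕ) : List ℕ := invWord (ThP.transWord b) ++ [0] ++ ThP.transWord b

theorem a_fix : Nat.beq ((List.range 819).countP fun x => Nat.beq (scan 14 ThP.table [0] x) x) 19 = true := by
  decide +kernel

theorem ac_conj : pEq (zWord Data.acIx) [5, 1] = true := by decide +kernel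

theorem comm_gens : (([0, 4, 6, 8, 10, 12] : List ℕ).all fun g => pEq [0, g] [g, 0]) = true := by
  decide +kernel

theorem zOrder_ok : (Nat.beq Data.zOrder.length 819 && (Data.zOrder.all fun b => Nat.blt b 819) &&
    increasing (Data.zOrder.map fun b => key (zWord b))) = true := by decide +kernel

end Cfsg.Agent.Lib.ThCent
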