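import Cfsg.Agent.Lib.ThDce.Data.Model
import Cfsg.Agent.Lib.ThCent.ClassChecks

/-!
At each node, the conjugates of the involution by transversal elements that move a flag's orbit.
-/

set_option autoImplicit false
set_option maxRecDepth 40000

namespace Cfsg.Agent.Lib.ThCent

open Cfsg.Agent.Lib.CosetEnum Cfsg.Agent.Lib.ExactCover
open Cfsg.Agent.Lib.ThDce (okH pEq)

/-- The correction at a block. -/
noncomputable def corr (b x : ℕ) : List ℕ :=
  ThP.transWord (scan 14 ThP.table (zWord b) x) ++ zWord b ++ invWord (ThP.transWord x)

/-- A block showing that a conjugate of the involution is outside a node's stabiliser. -/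
noncomputable def outAt (C : ThDce.Model) (i b x : ℕ) : Bool :=
  let V := C.vtx (C.nodes.getD i 0)
  let x' := scan 14 ThP.table (zWord b) x
  Nat.blt x 819 && Nat.blt x' 819 && okH (corr b x) &&
    (!Nat.beq (V.blk x').f (V.blk x).f ||
      (Nat.beq i 3 && Nat.beq (V.blk x).f 19 &&
        !ThP.wordEq ((V.blk x').K ++ corr b x) (V.blk x).K))

/-- A transversal element kept at a node. -/
def inB (i b : ℕ) : Bool := Nat.beq i 0 || (Data.nodeB.getD i []).any fun c => Nat.beq c b

/-- The check at a node. -/
noncomputable def nodeCheck (C : ThDce.Model) (i : ℕ) : Bool :=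
  allBelow 819 fun b => inB i b || (Data.nodeT.getD i []).any (outAt C i b)

theorem node1_ok : nodeCheck ThDce.Data.model 1 = true := by decide +kernel
theorem node2_ok : nodeCheck ThDce.Data.model 2 = true := by decide +kernel
theorem node3_ok : nodeCheck ThDce.Data.model 3 = true := by decide +kernel
theorem node4_ok : nodeCheck ThDce.Data.model 4 = true := by decide +kernel
theorem node5_ok : nodeCheck ThDce.Data.model 5 = true := by decide +kernel
theorem node6_ok : nodeCheck ThDce.Data.model 6 = true := by decide +kernel
theorem node7_ok : nodeCheck ThDce.Data.model 7 = true := by decide +kernel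
theorem node8_ok : nodeCheck ThDce.Data.model 8 = true := by decide +kernel
theorem node9_ok : nodeCheck ThDce.Data.model 9 = true := by decide +kernel
theorem node10_ok : nodeCheck ThDce.Data.model 10 = true := by decide +kernel

theorem nodeCheck_all : ∀ i, 1 ≤ i → i < 11 → nodeCheck ThDce.Data.model i = true := by
  intro i h1 h2
  interval_cases i
  exacts [node1_ok, node2_ok, node3_ok, node4_ok, node5_ok, node6_ok, node7_ok, node8_ok, node9_ok, node10_ok]

end Cfsg.Agent.Lib.ThCent
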