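import Cfsg.Agent.Lib.ThCent.Class
import Cfsg.Agent.Lib.ThCent.FixChecks
import Cfsg.Agent.Lib.ThDce.Count

/-!
Upper bound for the points fixed by the involution, and from it for the order of its centraliser.
-/

set_option autoImplicit false
set_option maxRecDepth 20000

namespace Cfsg.Agent.Lib.ThCent

open Cfsg.Agent.Lib.CosetEnum Cfsg.Agent.Lib.ExactCover
open Cfsg.Agent.Lib.ThDce (okP okP_iff okH okH_mem okH_okP pEq el el_append el_invWord el_eq_toTh el_nil
  pEq_val pEq_el val_append val_invWord okP_append okP_invWord el_rel pSide pSide_sep pSide_dec Side G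
  wordEq_of_val)

/-- The involution. -/
noncomputable abbrev zT : G := el [0]

section Node

variable (F : ThDce.Cert)

theorem flagClass_invariant (V : ThDce.VData) : Side.Invariant F.C.FN V F.flagClass := by
  intro f _ s hs k _
  refine Prod.ext rfl ?_
  ext x
  change x * (s * k)⁻¹ ∈ Side.fstab F.C.FN f ↔ x * k⁻¹ ∈ Side.fstab F.C.FN f
  rw [mul_inv_rev, ← mul_assoc]
  exact Subgroup.mul_mem_cancel_right _ (inv_mem hs)

theorem not_outAt {i : ℕ} (hi : i < F.C.nodes.length) (h19 : Side.fstab F.C.FN 19 = ⊥) {b : ℕ}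
    (hb : b < 819) (hσ : ThP.val (zWord b) ∈ pSide.stab (F.C.vtx (F.nd i))) (x : ℕ) :
    outAt F.C i b x = false := by
  by_contra hc
  rw [Bool.not_eq_false] at hc
  simp only [outAt, Bool.and_eq_true, Nat.blt_eq] at hc
  obtain ⟨⟨⟨hx, hx'⟩, hk⟩, hout⟩ := hc
  have hV := F.nodeOK i hi
  set V := F.C.vtx (F.nd i) with hVdef
  set x' := scan 14 ThP.table (zWord b) x with hx'def
  have hkc := okH_mem hk
  have e : ThP.val (zWord b) * ThP.val (invWord (ThP.transWord x)) =
      ThP.val (invWord (ThP.transWord x')) * ThP.val (corr b x) := by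
    simp only [corr, ← hx'def, val_append, val_invWord _ (ThDce.okP_transWord hx')]
    group
  have h1 : pSide.ext V F.flagClass (ThP.val (zWord b) * ThP.val (invWord (ThP.transWord x))) =
      F.flagClass (V.blk x').f (ThP.val (V.blk x').K * ThP.val (corr b x)) := by
    rw [e]
    exact Side.ext_eq (S := pSide) (V := V) pSide_sep F.flagClass (show x' < pSide.n from hx') hkc
  have h2 : pSide.ext V F.flagClass (ThP.val (zWord b) * ThP.val (invWord (ThP.transWord x))) =
      F.flagClass (V.blk x).f (ThP.val (V.blk x).K * 1) := by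
    rw [(Side.ext_stab hV pSide_sep (flagClass_invariant F V) hσ (pSide_dec _)).2]
    have := Side.ext_eq (S := pSide) (V := V) pSide_sep F.flagClass (show x < pSide.n from hx)
      (one_mem ThP.subC)
    rw [map_one, mul_one] at this
    exact this
  rw [h1, mul_one] at h2
  have hf : (V.blk x').f = (V.blk x).f := congrArg Prod.fst h2
  rw [Bool.or_eq_true] at hout
  rcases hout with hout | hout
  · rw [Bool.not_eq_true', ← Bool.not_eq_true, Nat.beq_eq] at hout
    exact hout hf
  · simp only [Bool.and_eq_true, Nat.beq_eq, Bool.not_eq_true', ← Bool.not_eq_true] at hout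
    have h3 : ({y | y * (ThP.val (V.blk x').K * ThP.val (corr b x))⁻¹ ∈ Side.fstab F.C.FN (V.blk x').f} :
        Set ThP.P) = {y | y * (ThP.val (V.blk x).K)⁻¹ ∈ Side.fstab F.C.FN (V.blk x).f} := congrArg Prod.snd h2
    have h4 : ThP.val (V.blk x).K ∈
        ({y | y * (ThP.val (V.blk x').K * ThP.val (corr b x))⁻¹ ∈ Side.fstab F.C.FN (V.blk x').f} :
          Set ThP.P) := by
      rw [h3]; simp [one_mem]
    change ThP.val (V.blk x).K * _ ∈ Side.fstab F.C.FN (V.blk x').f at h4
    rw [hf, hout.1.2, h19, Subgroup.mem_bot, mul_inv_eq_one] at h4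
    exact hout.2 (wordEq_of_val
      (okP_append (okH_okP (Side.blk_facts hV (show x' < pSide.n from hx')).2) (okH_okP hk))
      (okH_okP (Side.blk_facts hV (show x < pSide.n from hx)).2) (by rw [val_append, ← h4]))

theorem inB_of_mem {i : ℕ} (hi : i < F.C.nodes.length) (h19 : Side.fstab F.C.FN 19 = ⊥)
    (hcheck : nodeCheck F.C i = true) {b : ℕ} (hb : b < 819)
    (hσ : ThP.val (zWord b) ∈ pSide.stab (F.C.vtx (F.nd i))) : inB i b = true := by
  have h := allBelow_iff.1 hcheck b hb
  rw [Bool.or_eq_true, List.any_eq_true] at h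
  rcases h with h | ⟨x, -, hx⟩
  · exact h
  · rw [not_outAt F hi h19 hb hσ x] at hx
    exact absurd hx Bool.false_ne_true

/-- The fixed points at a node. -/
def fixNode (i : ℕ) : Set (ThP.P ⧸ pSide.stab (F.C.vtx (F.nd i))) :=
  {c | (ThP.val [0])⁻¹ • c = c}

theorem fixNode_le {i : ℕ} (hi : i < F.C.nodes.length) (h19 : Side.fstab F.C.FN 19 = ⊥)
    (hcheck : nodeCheck F.C i = true) (h0 : Nat.beq i 0 = false) :
    Nat.card (pSide.stab (F.C.vtx (F.nd i))) * Nat.card (fixNode F i) ≤
      (Data.nodeB.getD i []).length * 774144 := by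
  classical
  rw [← Nat.card_prod, ← Nat.card_congr (QuotientGroup.preimageMkEquivSubgroupProdSet _ (fixNode F i))]
  have key : ∀ q : (QuotientGroup.mk ⁻¹' fixNode F i : Set ThP.P),
      ∃ (b : Fin 819) (c : ThP.subC), b.1 ∈ (Data.nodeB.getD i []).toFinset ∧
        q.1 = c.1 * ThP.val (ThP.transWord b.1) := by
    rintro ⟨q, hq⟩
    obtain ⟨c, hc, b, hb, rfl⟩ := ThP.exists_trans q
    refine ⟨⟨b, hb⟩, ⟨c, hc⟩, ?_, rfl⟩
    change (ThP.val [0])⁻¹ • (QuotientGroup.mk (c * ThP.val (ThP.transWord b)) :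
      ThP.P ⧸ pSide.stab (F.C.vtx (F.nd i))) = _ at hq
    rw [MulAction.Quotient.smul_mk, QuotientGroup.eq, smul_eq_mul] at hq
    have hz : ThP.val (zWord b) ∈ pSide.stab (F.C.vtx (F.nd i)) := by
      rw [(val_zWord hb).2]
      have e := (subC_comm c hc).eq
      convert hq using 1
      calc (ThP.val (ThP.transWord b))⁻¹ * ThP.val [0] * ThP.val (ThP.transWord b)
          = (ThP.val (ThP.transWord b))⁻¹ * (c⁻¹ * (c * ThP.val [0])) * ThP.val (ThP.transWord b) := by group
        _ = (ThP.val (ThP.transWord b))⁻¹ * (c⁻¹ * (ThP.val [0] * c)) * ThP.val (ThP.transWord b) := by rw [e]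
        _ = _ := by group
    have h := inB_of_mem F hi h19 hcheck hb hz
    rw [inB, h0, Bool.false_or, List.any_eq_true] at h
    obtain ⟨c', hc', he⟩ := h
    rw [Nat.beq_eq] at he
    exact List.mem_toFinset.2 (he ▸ hc')
  choose fb fc hfb hfc using key
  let f : (QuotientGroup.mk ⁻¹' fixNode F i : Set ThP.P) →
      ↥(Data.nodeB.getD i []).toFinset × ThP.subC := fun q => (⟨(fb q).1, hfb q⟩, fc q)
  have hf : Function.Injective f := by
    intro q r h
    have h1 : fb q = fb r := Fin.ext (congrArg (fun p => p.1.1) h)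
    have h2 : fc q = fc r := congrArg Prod.snd h
    exact Subtype.ext (by rw [hfc q, hfc r, h1, h2])
  refine (Nat.card_le_card_of_injective f hf).trans ?_
  rw [Nat.card_prod, Nat.card_eq_fintype_card, Fintype.card_coe, ThP.card_subC]
  exact Nat.mul_le_mul_right _ (List.toFinset_card_le _)

end Node

/-- The elements of `P` conjugate to the involution that are used. -/
noncomputable def classY : Finset ThP.P :=
  haveI := Classical.decEq ThP.P
  classA ∪ classB

theorem classY_card : 35399 ≤ classY.card := by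
  classical
  rw [classY, Finset.card_union_of_disjoint class_disjoint, classA_card]
  have := classB_card
  omega

theorem conj_w : ∃ g : G, g⁻¹ * zT * g = ThP.toTh (ThP.val wW) := by
  have hb : Data.acIx < 819 := by decide
  have htw := okP_iff.2 (ThP.transWord_spec Data.acIx hb).1
  refine ⟨el (ThP.transWord Data.acIx) * el [2, 14], ?_⟩
  have h1 : (el (ThP.transWord Data.acIx))⁻¹ * zT * el (ThP.transWord Data.acIx) = el [5, 1] := by
    rw [← pEq_el ac_conj, zWord, el_append, el_append, el_invWord]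
  have hrel : el [15, 3, 5, 1, 2, 14, 3, 0, 4, 2, 9] = 1 := el_rel (by decide +kernel)
  rw [show ([15, 3, 5, 1, 2, 14, 3, 0, 4, 2, 9] : List ℕ) = invWord [2, 14] ++ [5, 1] ++ [2, 14] ++ invWord wW from
    rfl, el_append, el_append, el_append, el_invWord, el_invWord, mul_inv_eq_one] at hrel
  rw [← el_eq_toTh wW okP_wW, ← hrel, ← h1]
  group

theorem classY_conj {y : ThP.P} (hy : y ∈ classY) : ∃ g : G, g⁻¹ * zT * g = ThP.toTh y := by
  classical
  simp only [classY, Finset.mem_union, classA, classB, Finset.mem_image, Finset.mem_univ, true_and] at hy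
  rcases hy with ⟨j, rfl⟩ | ⟨g, rfl⟩
  · refine ⟨ThP.toTh (ordV j), ?_⟩
    rw [map_mul, map_mul, map_inv, ← el_eq_toTh [0] rfl]
  · obtain ⟨h, hh⟩ := conj_w
    refine ⟨h * (ThP.toTh g)⁻¹, ?_⟩
    rw [map_mul, map_mul, map_inv, ← hh]
    group

/-- The count that bounds the centraliser. -/
theorem card_centralizer_mul_le [Finite G] (hinj : Function.Injective ThP.toTh) {N : ℕ}
    (hN : Nat.card {c : G ⧸ ThP.toTh.range // zT • c = c} ≤ N) :
    Nat.card (Subgroup.centralizer ({zT} : Set G)) * 35399 ≤ N * 634023936 := by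
  classical
  choose g hg using fun y : ↥classY => classY_conj y.2
  let T : Set G := QuotientGroup.mk ⁻¹' {c : G ⧸ ThP.toTh.range | zT • c = c}
  have hT : Nat.card T ≤ N * 634023936 := by
    rw [Nat.card_congr (QuotientGroup.preimageMkEquivSubgroupProdSet _ _), Nat.card_prod, mul_comm,
      ← Nat.card_congr (MonoidHom.ofInjective hinj).toEquiv, ThP.card_P]
    exact Nat.mul_le_mul_right _ hN
  let f : Subgroup.centralizer ({zT} : Set G) × ↥classY → T := fun p => ⟨p.1.1 * g p.2, by
    show zT • (QuotientGroup.mk (p.1.1 * g p.2) : G ⧸ ThP.toTh.range) = _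
    rw [MulAction.Quotient.smul_mk, QuotientGroup.eq, smul_eq_mul]
    have hc := Subgroup.mem_centralizer_singleton_iff.1 p.1.2
    have e : (zT * (p.1.1 * g p.2))⁻¹ * (p.1.1 * g p.2) = ((g p.2)⁻¹ * zT * g p.2)⁻¹ := by
      calc (zT * (p.1.1 * g p.2))⁻¹ * (p.1.1 * g p.2) = ((zT * p.1.1) * g p.2)⁻¹ * (p.1.1 * g p.2) := by group
        _ = ((p.1.1 * zT) * g p.2)⁻¹ * (p.1.1 * g p.2) := by rw [hc]
        _ = _ := by group
    rw [e, hg]
    exact inv_mem ⟨_, rfl⟩⟩
  have hf : Function.Injective f := by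
    intro p q h
    have h' : p.1.1 * g p.2 = q.1.1 * g q.2 := congrArg Subtype.val h
    have key : ∀ (c : Subgroup.centralizer ({zT} : Set G)) (x : G), (c.1 * x)⁻¹ * zT * (c.1 * x) = x⁻¹ * zT * x := by
      intro c x
      have hc := Subgroup.mem_centralizer_singleton_iff.1 c.2
      calc (c.1 * x)⁻¹ * zT * (c.1 * x) = x⁻¹ * (c.1⁻¹ * (zT * c.1)) * x := by group
        _ = x⁻¹ * (c.1⁻¹ * (c.1 * zT)) * x := by rw [hc]
        _ = _ := by group
    have hy : p.2 = q.2 := Subtype.ext (hinj (by rw [← hg, ← hg, ← key p.1, h', key]))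
    rw [hy] at h'
    exact Prod.ext (Subtype.ext (mul_right_cancel h')) hy
  have h := (Nat.card_le_card_of_injective f hf).trans hT
  rw [Nat.card_prod, Nat.card_eq_fintype_card (α := ↥classY), Fintype.card_coe] at h
  exact (Nat.mul_le_mul_left _ classY_card).trans h

end Cfsg.Agent.Lib.ThCent
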