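import Cfsg.Agent.Lib.ThDce.CSch.Check
import Cfsg.Agent.Lib.ThDce.Model
import Cfsg.Agent.Lib.ThCent.ClassChecks
import Cfsg.Agent.Lib.ThCent.Perms

/-!
Checks for the action of `⟨a, c, d, e, s, t, u⟩` on its 120 cosets and for the kernel of that action.
-/

set_option autoImplicit false
set_option maxRecDepth 40000

namespace Cfsg.Agent.Lib.ThCent

open Cfsg.Agent.Lib.CosetEnum Cfsg.Agent.Lib.ExactCover
open Cfsg.Agent.Lib.ThDce (okP okH pEq CTab)
open Cfsg.Agent.Lib.Computation (okPerm getW)

/-- The seven letters. -/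
def G7 : List ℕ := [0, 4, 6, 8, 10, 12, 14]

theorem G7_ok : (G7.all fun g => CTab.okLetter g) = true := by decide +kernel

theorem perm_ok : (allBelow 7 fun i =>
    okPerm 120 7 (Perms.w_gens.getD i 0) && okPerm 129 8 (Perms.r_gens.getD i 0) &&
      okPerm 9 4 (Perms.n_gens.getD i 0) &&
      (allBelow 120 fun j => Nat.beq (getW 7 (Perms.w_gens.getD i 0) j)
        (ThDce.CSch.tab.run (invWord [G7.getD i 0]) j).1) &&
      allBelow 129 fun j => Nat.beq (getW 8 (Perms.r_gens.getD i 0) j)
        (bif Nat.blt j 120 then getW 7 (Perms.w_gens.getD i 0) j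
          else Nat.add 120 (getW 4 (Perms.n_gens.getD i 0) (Nat.sub j 120)))) = true := by
  decide +kernel

theorem gens_len : (Nat.beq Perms.w_gens.length 7 && Nat.beq Perms.r_gens.length 7 &&
    Nat.beq Perms.n_gens.length 7) = true := by decide +kernel

/-- The product of some of the generators of the kernel. -/
def qWord (m : ℕ) : List ℕ :=
  (List.range 9).flatMap fun k =>
    bif Nat.beq (Nat.mod (Nat.shiftRight m k) 2) 1 then Data.qWords.getD k [] else []

theorem qWords_ok : (allBelow 9 fun k => okH (Data.qWords.getD k []) && CTab.okC (Data.qWords.getD k []) &&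
    allBelow 120 fun j => Nat.beq (ThDce.CSch.tab.run (invWord (Data.qWords.getD k [])) j).1 j) = true := by
  decide +kernel

theorem qOrder_ok : (Nat.beq Data.qOrder.length 512 && (Data.qOrder.all fun m => Nat.blt m 512) &&
    increasing (Data.qOrder.map fun m => key (qWord m))) = true := by
  decide +kernel

theorem qSquare_ok : (Data.qOrder.all fun m =>
    ThP.wordEq (qWord m ++ qWord m) [] || ThP.wordEq (qWord m ++ qWord m) [0]) = true := by
  decide +kernel

theorem qCentre_ok : (Data.qOrder.all fun m => Nat.beq m 0 || Nat.beq m 1 ||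
    (List.range 9).any fun k => !ThP.wordEq (qWord m ++ Data.qWords.getD k [])
      (Data.qWords.getD k [] ++ qWord m)) = true := by
  decide +kernel

theorem qWord_one : (ThDce.leq (qWord 1) [0] && ThDce.leq (qWord 0) []) = true := by decide +kernel

end Cfsg.Agent.Lib.ThCent
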