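import Cfsg.Agent.Lib.ThCent.Class
import Cfsg.Agent.Lib.ThCent.StructChecks
import Cfsg.Agent.Lib.ThDce.Sep

/-!
The subgroup generated by seven of the generators: it centralises the involution, has order
`120 * 774144`, and acts on the 120 cosets of the stabiliser.
-/

set_option autoImplicit false
set_option maxRecDepth 20000

namespace Cfsg.Agent.Lib.ThCent

open Cfsg.Agent.Lib.CosetEnum Cfsg.Agent.Lib.ExactCover
open Cfsg.Agent.Lib.ThDce (okP okP_iff pEq el el_append el_cons el_invWord el_eq_toTh el_nil el_rel pEq_el G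
  CTab cSide okC_invWord okH okH_mem okH_okP val_append)

/-- The table. -/
abbrev Tb : CTab := ThDce.CSch.tab

/-- Its correctness. -/
theorem Tb_ok : Tb.OK := ThDce.CSch.tab_ok

/-- The words. -/
def InC (x : G) : Prop := ∃ w : List ℕ, CTab.okC w = true ∧ el w = x

theorem okC_cons {g : ℕ} {w : List ℕ} : CTab.okC (g :: w) = true ↔ CTab.okLetter g = true ∧ CTab.okC w = true := by
  simp [CTab.okC]

theorem okC_append {u v : List ℕ} (hu : CTab.okC u = true) (hv : CTab.okC v = true) :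
    CTab.okC (u ++ v) = true := by
  simp only [CTab.okC, List.all_append, Bool.and_eq_true]
  exact ⟨hu, hv⟩

/-- The subgroup of the words. -/
noncomputable def C0 : Subgroup G where
  carrier := {x | InC x}
  one_mem' := ⟨[], rfl, el_nil⟩
  mul_mem' := by
    rintro x y ⟨u, hu, rfl⟩ ⟨v, hv, rfl⟩
    exact ⟨u ++ v, okC_append hu hv, el_append u v⟩
  inv_mem' := by
    rintro x ⟨u, hu, rfl⟩
    exact ⟨invWord u, okC_invWord hu, el_invWord u⟩

theorem el_mem {w : List ℕ} (h : CTab.okC w = true) : el w ∈ C0 := ⟨w, h, rfl⟩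

theorem toTh_mem {k : ThP.P} (hk : k ∈ ThP.subC) : ThP.toTh k ∈ C0 := by
  induction hk using Subgroup.closure_induction with
  | mem x hx =>
    obtain ⟨l, hl, rfl⟩ := hx
    simp only [ThP.Index.subWords, List.mem_cons, List.not_mem_nil, or_false] at hl
    rcases hl with rfl | rfl | rfl | rfl | rfl | rfl <;>
      exact ⟨_, by decide, el_eq_toTh _ (by decide)⟩
  | one => rw [map_one]; exact one_mem _
  | mul x y _ _ hx hy => rw [map_mul]; exact mul_mem hx hy
  | inv x _ hx => rw [map_inv]; exact inv_mem hx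

theorem comm_letter : ∀ g, CTab.okLetter g = true → Commute (el [0]) (el [g]) := by
  have hflip : ∀ g, Commute (el [0]) (el [g]) → Commute (el [0]) (el [ExactCover.flip g]) := fun g h => by
    rw [ThDce.el_flip]; exact h.inv_right
  have h0 : ∀ g ∈ ([0, 4, 6, 8, 10, 12] : List ℕ), Commute (el [0]) (el [g]) := fun g hg => by
    have h := pEq_el (List.all_eq_true.1 comm_gens g hg)
    rwa [show ([0, g] : List ℕ) = [0] ++ [g] from rfl, show ([g, 0] : List ℕ) = [g] ++ [0] from rfl,
      el_append, el_append] at h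
  have hu : Commute (el [0]) (el [14]) := by
    have h : el [15, 1, 14, 0] = 1 := el_rel (by decide +kernel)
    rw [show ([15, 1, 14, 0] : List ℕ) = invWord [0, 14] ++ ([14] ++ [0]) from rfl, el_append, el_invWord,
      inv_mul_eq_one, show ([0, 14] : List ℕ) = [0] ++ [14] from rfl, el_append, el_append] at h
    exact h
  intro g hg
  simp only [CTab.okLetter, Bool.and_eq_true, Nat.blt_eq, Bool.not_eq_true', ← Bool.not_eq_true,
    Nat.beq_eq] at hg
  have hg16 : g < 16 := hg.1.1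
  interval_cases g
  · exact h0 0 (by simp)
  · exact hflip 0 (h0 0 (by simp))
  · omega
  · omega
  · exact h0 4 (by simp)
  · exact hflip 4 (h0 4 (by simp))
  · exact h0 6 (by simp)
  · exact hflip 6 (h0 6 (by simp))
  · exact h0 8 (by simp)
  · exact hflip 8 (h0 8 (by simp))
  · exact h0 10 (by simp)
  · exact hflip 10 (h0 10 (by simp))
  · exact h0 12 (by simp)
  · exact hflip 12 (h0 12 (by simp))
  · exact hu
  · exact hflip 14 hu

theorem C0_le : C0 ≤ Subgroup.centralizer ({el [0]} : Set G) := by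
  rintro x ⟨w, hw, rfl⟩
  rw [Subgroup.mem_centralizer_singleton_iff]
  induction w with
  | nil => simp [el_nil]
  | cons g w ih =>
    rw [okC_cons] at hw
    rw [el_cons g w, mul_assoc, ih hw.2, ← mul_assoc, ← (comm_letter g hw.1).eq, mul_assoc]

/-- The representative of a coset. -/
noncomputable def repC (j : Fin 120) : C0 :=
  ⟨el (invWord (Tb.rep j.1)), el_mem (okC_invWord (Tb_ok.repOK j.1 j.2))⟩

/-- The stabiliser. -/
noncomputable def Hc : Subgroup C0 := (ThP.subC.map ThP.toTh).subgroupOf C0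

theorem step {w : List ℕ} (hw : CTab.okC w = true) (j : Fin 120) :
    ∃ (hj : (Tb.run (invWord w) j.1).1 < 120) (k : ThP.P), k ∈ ThP.subC ∧
      el w * el (invWord (Tb.rep j.1)) = el (invWord (Tb.rep (Tb.run (invWord w) j.1).1)) * ThP.toTh k := by
  obtain ⟨h1, h2, h3, h4⟩ := CTab.run_sound Tb_ok (invWord w) j.1 (okC_invWord hw) j.2
  refine ⟨h1, (ThP.val (Tb.run (invWord w) j.1).2)⁻¹, inv_mem (ThP.val_mem_subC _ (okP_iff.1 h2) h3), ?_⟩
  rw [el_invWord, el_eq_toTh _ h2] at h4
  rw [el_invWord, el_invWord, map_inv, ← mul_inv_rev, ← h4, mul_inv_rev, inv_inv]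

theorem exists_repC (x : C0) : ∃ j : Fin 120, ∃ k ∈ ThP.subC, x.1 = (repC j).1 * ThP.toTh k := by
  obtain ⟨w, hw, hx⟩ := x.2
  obtain ⟨hj, k, hk, e⟩ := step hw ⟨0, by omega⟩
  refine ⟨⟨_, hj⟩, k, hk, ?_⟩
  rw [Tb_ok.rep0] at e
  rw [← hx]
  simpa [el_nil, invWord, repC] using e

variable (hS : (cSide Tb Tb_ok).Sep)
include hS

/-- The cosets and the elements of the stabiliser. -/
theorem repC_unique {i j : Fin 120} {k l : ThP.P} (hk : k ∈ ThP.subC) (hl : l ∈ ThP.subC)
    (h : (repC i).1 * ThP.toTh k = (repC j).1 * ThP.toTh l) : i = j ∧ k = l := by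
  have e : i = j := Fin.ext (hS.uniq i.1 i.2 j.1 j.2 k hk l hl h)
  subst e
  exact ⟨rfl, hS.κ_inj (mul_left_cancel h)⟩

theorem card_C0 : Nat.card C0 = 92897280 := by
  let f : Fin 120 × ThP.subC → C0 := fun p => repC p.1 * ⟨ThP.toTh p.2.1, toTh_mem p.2.2⟩
  have hf : Function.Bijective f := by
    refine ⟨fun p q h => ?_, fun x => ?_⟩
    · obtain ⟨h1, h2⟩ := repC_unique hS p.2.2 q.2.2 (congrArg Subtype.val h)
      exact Prod.ext h1 (Subtype.ext h2)
    · obtain ⟨j, k, hk, e⟩ := exists_repC x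
      exact ⟨⟨j, ⟨k, hk⟩⟩, Subtype.ext e.symm⟩
  rw [← Nat.card_eq_of_bijective f hf, Nat.card_prod, Nat.card_fin, ThP.card_subC]

theorem cosets_bijective : Function.Bijective fun j : Fin 120 => (QuotientGroup.mk (repC j) : C0 ⧸ Hc) := by
  refine ⟨fun i j h => ?_, fun c => ?_⟩
  · rw [QuotientGroup.eq, Hc, Subgroup.mem_subgroupOf, Subgroup.mem_map] at h
    obtain ⟨k, hk, e⟩ := h
    refine (repC_unique hS (i := i) (j := j) hk (one_mem ThP.subC) ?_).1
    rw [e, map_one, mul_one]
    simp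
  · induction c using QuotientGroup.induction_on with
    | H x =>
      obtain ⟨j, k, hk, e⟩ := exists_repC x
      refine ⟨j, ?_⟩
      show (QuotientGroup.mk (repC j) : C0 ⧸ Hc) = QuotientGroup.mk x
      rw [QuotientGroup.eq, Hc, Subgroup.mem_subgroupOf]
      exact ⟨k, hk, by simp [e]⟩

/-- The cosets. -/
noncomputable def cosets : Fin 120 ≃ C0 ⧸ Hc := Equiv.ofBijective _ (cosets_bijective hS)

/-- The action on the cosets. -/
noncomputable def phi : C0 →* Equiv.Perm (Fin 120) :=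
  (cosets hS).symm.permCongrHom.toMonoidHom.comp (MulAction.toPermHom C0 (C0 ⧸ Hc))

theorem phi_word {w : List ℕ} (hw : CTab.okC w = true) (j : Fin 120) :
    (phi hS ⟨el w, el_mem hw⟩ j).1 = (Tb.run (invWord w) j.1).1 := by
  obtain ⟨hj, k, hk, e⟩ := step hw j
  have : phi hS ⟨el w, el_mem hw⟩ j = ⟨_, hj⟩ := by
    show (cosets hS).symm ((⟨el w, el_mem hw⟩ : C0) • (cosets hS j)) = _
    rw [Equiv.symm_apply_eq]
    show (⟨el w, el_mem hw⟩ : C0) • (QuotientGroup.mk (repC j) : C0 ⧸ Hc) = QuotientGroup.mk (repC ⟨_, hj⟩)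
    rw [MulAction.Quotient.smul_mk, eq_comm, QuotientGroup.eq, Hc, Subgroup.mem_subgroupOf]
    refine ⟨k, hk, ?_⟩
    simp [repC, e]
  rw [this]

end Cfsg.Agent.Lib.ThCent
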