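import Cfsg.Agent.Lib.ThCent.Group
import Cfsg.Agent.Lib.ThDce.Count
import Cfsg.Agent.Lib.PGroups.Frattini
import Cfsg.Prelude.Def_Transfer

/-!
The action on the 120 cosets: its image is isomorphic to the alternating group of degree nine, and its
kernel is extraspecial of order 512.
-/

set_option autoImplicit false
set_option maxRecDepth 20000

namespace Cfsg.Agent.Lib.ThCent

open Cfsg.Agent.Lib.CosetEnum Cfsg.Agent.Lib.ExactCover
open Cfsg.Agent.Lib.ThDce (okP okP_iff pEq el el_append el_cons el_invWord el_eq_toTh el_nil el_rel pEq_el G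
  CTab cSide okC_invWord okH okH_mem okH_okP val_append val_invWord)
open Cfsg.Agent.Lib.Computation (getW okPerm decodeP decodeP_apply permRep)
open scoped commutatorElement

/-- A generator on the cosets. -/
noncomputable def wg (i : Fin 7) : Equiv.Perm (Fin 120) := decodeP 120 7 (Perms.w_gens.getD i.1 0)

/-- A generator on nine points. -/
noncomputable def ng (i : Fin 7) : Equiv.Perm (Fin 9) := decodeP 9 4 (Perms.n_gens.getD i.1 0)

/-- A generator on both. -/
noncomputable def rg (i : Fin 7) : Equiv.Perm (Fin 129) := decodeP 129 8 (Perms.r_gens.getD i.1 0)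

theorem gens_image {M w : ℕ} [NeZero M] (hw : M ≤ 2 ^ w) (l : List ℕ) (hl : l.length = 7)
    (f : Fin 7 → Equiv.Perm (Fin M)) (hf : ∀ i, f i = decodeP M w (l.getD i.1 0)) :
    (permRep M w hw).val '' {s | s ∈ l} = Set.range f := by
  ext x
  constructor
  · rintro ⟨s, hs, rfl⟩
    obtain ⟨i, hi, rfl⟩ := List.getElem_of_mem hs
    refine ⟨⟨i, by omega⟩, ?_⟩
    rw [hf, List.getD_eq_getElem _ _ hi]
  · rintro ⟨i, rfl⟩
    refine ⟨l.getD i.1 0, ?_, (hf i).symm⟩
    rw [List.getD_eq_getElem _ _ (by omega)]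
    exact List.getElem_mem _

theorem lens : Perms.w_gens.length = 7 ∧ Perms.r_gens.length = 7 ∧ Perms.n_gens.length = 7 := by
  have h := gens_len
  simp only [Bool.and_eq_true, Nat.beq_eq] at h
  exact ⟨h.1.1, h.1.2, h.2⟩

theorem card_wg : Nat.card (Subgroup.closure (Set.range wg)) = 181440 := by
  rw [← gens_image (w := 7) (by decide) _ lens.1 wg fun _ => rfl,
    (permRep 120 7 (by decide)).card_closure Perms.w_check]
  decide +kernel

theorem card_ng : Nat.card (Subgroup.closure (Set.range ng)) = 181440 := by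
  rw [← gens_image (w := 4) (by decide) _ lens.2.2 ng fun _ => rfl,
    (permRep 9 4 (by decide)).card_closure Perms.n_check]
  decide +kernel

theorem card_rg : Nat.card (Subgroup.closure (Set.range rg)) = 181440 := by
  rw [← gens_image (w := 8) (by decide) _ lens.2.1 rg fun _ => rfl,
    (permRep 129 8 (by decide)).card_closure Perms.r_check]
  decide +kernel

/-- Permutations of the two blocks as one. -/
noncomputable def both : Equiv.Perm (Fin 120) × Equiv.Perm (Fin 9) →* Equiv.Perm (Fin 129) :=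
  (finSumFinEquiv (m := 120) (n := 9)).permCongrHom.toMonoidHom.comp (Equiv.Perm.sumCongrHom _ _)

theorem both_inj : Function.Injective both :=
  (finSumFinEquiv (m := 120) (n := 9)).permCongrHom.injective.comp Equiv.Perm.sumCongrHom_injective

theorem both_gen (i : Fin 7) : both (wg i, ng i) = rg i := by
  have h := allBelow_iff.1 perm_ok i.1 i.2
  simp only [Bool.and_eq_true] at h
  obtain ⟨⟨⟨⟨hw, hr⟩, hn⟩, -⟩, h129⟩ := h
  refine Equiv.ext fun x => ?_
  obtain ⟨y, rfl⟩ := (finSumFinEquiv (m := 120) (n := 9)).surjective x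
  refine Fin.ext ?_
  have hy := allBelow_iff.1 h129 _ (finSumFinEquiv y).2
  rw [Nat.beq_eq] at hy
  rw [rg, decodeP_apply hr]
  refine Eq.trans ?_ hy.symm
  show (finSumFinEquiv (Sum.map (wg i) (ng i) (finSumFinEquiv.symm (finSumFinEquiv y)))).1 =
    bif Nat.blt (finSumFinEquiv y).1 120 then getW 7 (Perms.w_gens.getD i.1 0) (finSumFinEquiv y).1
    else Nat.add 120 (getW 4 (Perms.n_gens.getD i.1 0) (Nat.sub (finSumFinEquiv y).1 120))
  rw [Equiv.symm_apply_apply]
  cases y with
  | inl a =>
    have e : Nat.blt a.1 120 = true := by rw [Nat.blt_eq]; exact a.2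
    rw [Sum.map_inl, finSumFinEquiv_apply_left, finSumFinEquiv_apply_left, Fin.val_castAdd, Fin.val_castAdd, e,
      cond_true, wg, decodeP_apply hw]
  | inr a =>
    have e : Nat.blt (120 + a.1) 120 = false := Bool.eq_false_iff.2 fun h => by
      rw [Nat.blt_eq] at h; omega
    rw [Sum.map_inr, finSumFinEquiv_apply_right, finSumFinEquiv_apply_right, Fin.val_natAdd, Fin.val_natAdd, e,
      cond_false, ng, decodeP_apply hn, show Nat.sub (120 + a.1) 120 = a.1 from Nat.add_sub_cancel_left 120 a.1]
    rfl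

/-- The pairs. -/
noncomputable def Rp : Subgroup (Equiv.Perm (Fin 120) × Equiv.Perm (Fin 9)) :=
  Subgroup.closure (Set.range fun i => (wg i, ng i))

theorem card_Rp : Nat.card Rp = 181440 := by
  rw [Nat.card_congr (Rp.equivMapOfInjective both both_inj).toEquiv, Rp, MonoidHom.map_closure,
    ← Set.range_comp, show both ∘ (fun i => (wg i, ng i)) = rg from funext both_gen]
  exact card_rg

theorem exists_iso : Nonempty (Subgroup.closure (Set.range wg) ≃* alternatingGroup (Fin 9)) := by
  have hfst : Rp.map (MonoidHom.fst _ _) = Subgroup.closure (Set.range wg) := by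
    rw [Rp, MonoidHom.map_closure, ← Set.range_comp]; rfl
  have hsnd : Rp.map (MonoidHom.snd _ _) = Subgroup.closure (Set.range ng) := by
    rw [Rp, MonoidHom.map_closure, ← Set.range_comp]; rfl
  have halt : Subgroup.closure (Set.range ng) = alternatingGroup (Fin 9) := by
    refine Equiv.Perm.eq_alternatingGroup_of_index_eq_two ?_
    have h := (Subgroup.closure (Set.range ng)).card_mul_index
    rw [card_ng, Nat.card_perm, Nat.card_fin, show Nat.factorial 9 = 362880 from rfl] at h
    omega
  let f := (MonoidHom.fst (Equiv.Perm (Fin 120)) (Equiv.Perm (Fin 9))).subgroupMap Rp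
  let g := (MonoidHom.snd (Equiv.Perm (Fin 120)) (Equiv.Perm (Fin 9))).subgroupMap Rp
  have hf : Function.Bijective f := (Nat.bijective_iff_surjective_and_card f).2
    ⟨MonoidHom.subgroupMap_surjective _ _, by rw [card_Rp, hfst, card_wg]⟩
  have hg : Function.Bijective g := (Nat.bijective_iff_surjective_and_card g).2
    ⟨MonoidHom.subgroupMap_surjective _ _, by rw [card_Rp, hsnd, card_ng]⟩
  exact ⟨(MulEquiv.subgroupCongr hfst.symm).trans ((MulEquiv.ofBijective f hf).symm.trans
    ((MulEquiv.ofBijective g hg).trans (MulEquiv.subgroupCongr (hsnd.trans halt))))⟩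

/-- A criterion. -/
theorem isExtraspecial_two {P : Type*} [Group P] [Finite P] (hP : IsPGroup 2 P) {z : P} (hz : orderOf z = 2)
    (hcz : ∀ g : P, g ∈ Subgroup.center P ↔ g = 1 ∨ g = z) (hsq : ∀ g : P, g * g = 1 ∨ g * g = z)
    (hne : Nat.card P ≠ 2) : Cfsg.IsExtraspecial 2 P := by
  haveI : Fact (Nat.Prime 2) := ⟨Nat.prime_two⟩
  have hcard : Nat.card (Subgroup.center P) = 2 := by
    have e : Subgroup.center P = Subgroup.zpowers z := by
      refine le_antisymm (fun g hg => ?_) (Subgroup.zpowers_le.2 ((hcz z).2 (Or.inr rfl)))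
      rcases (hcz g).1 hg with rfl | rfl
      · exact one_mem _
      · exact Subgroup.mem_zpowers _
    rw [e, Nat.card_zpowers, hz]
  have hsq' : ∀ g : P, g ^ 2 ∈ Subgroup.center P := fun g => by
    rw [sq]; exact (hcz _).2 (hsq g)
  have hle : commutator P ≤ Subgroup.center P := by
    rw [commutator_def, Subgroup.commutator_le]
    intro a _ b _
    have ha := Subgroup.mem_center_iff.1 (hsq' a)
    have e : ⁅a, b⁆ = (a * b) ^ 2 * ((a ^ 2)⁻¹ * (b ^ 2)⁻¹) := by
      have h1 : b⁻¹ * (a ^ 2)⁻¹ = (a ^ 2)⁻¹ * b⁻¹ := by rw [← mul_inv_rev, ← mul_inv_rev, ha b]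
      calc ⁅a, b⁆ = (a * b) ^ 2 * (b⁻¹ * (a ^ 2)⁻¹) * b⁻¹ := by
            rw [commutatorElement_def]; simp only [sq]; group
        _ = (a * b) ^ 2 * ((a ^ 2)⁻¹ * (b ^ 2)⁻¹) := by rw [h1]; simp only [sq]; group
    rw [e]
    exact mul_mem (hsq' _) (mul_mem (inv_mem (hsq' _)) (inv_mem (hsq' _)))
  have hcomm : commutator P = Subgroup.center P := by
    refine Subgroup.eq_of_le_of_card_ge hle ?_
    rw [hcard]
    by_contra hlt
    have h1 : Nat.card (commutator P) = 1 := by
      have := Nat.card_pos (α := commutator P); omega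
    rw [Subgroup.card_eq_one, commutator_eq_bot_iff_center_eq_top] at h1
    rw [h1, Subgroup.card_top] at hcard
    exact hne hcard
  refine ⟨⟨hP, le_antisymm ?_ ?_, hcomm⟩, hcard⟩
  · exact Cfsg.Agent.Lib.PGroups.frattini_le_of_pow_commutator (p := 2) _ hsq' hle
  · rw [← hcomm]
    exact Cfsg.Agent.Lib.PGroups.commutator_le_frattini hP

variable (hS : (cSide Tb Tb_ok).Sep)
include hS

theorem phi_gen (i : Fin 7) {g : ℕ} (hg : G7.getD i.1 0 = g) (hok : CTab.okC [g] = true) :
    phi hS ⟨el [g], el_mem hok⟩ = wg i := by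
  have h := allBelow_iff.1 perm_ok i.1 i.2
  simp only [Bool.and_eq_true] at h
  refine Equiv.ext fun j => Fin.ext ?_
  have hj := allBelow_iff.1 h.1.2 j.1 j.2
  rw [Nat.beq_eq] at hj
  rw [phi_word hS hok j, wg, decodeP_apply h.1.1.1.1, hj, hg]

theorem range_phi : (phi hS).range = Subgroup.closure (Set.range wg) := by
  refine le_antisymm ?_ ((Subgroup.closure_le _).2 ?_)
  · rintro _ ⟨x, rfl⟩
    obtain ⟨w, hw, hxw⟩ := x.2
    have hG : ∀ g, CTab.okLetter g = true → ∃ i : Fin 7, G7.getD i.1 0 = g ∨ G7.getD i.1 0 = ExactCover.flip g := by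
      intro g hg
      simp only [CTab.okLetter, Bool.and_eq_true, Nat.blt_eq] at hg
      have : g < 16 := hg.1.1
      interval_cases g <;> first | decide | simp_all
    induction w generalizing x with
    | nil =>
      rw [show x = 1 from Subtype.ext (hxw.symm.trans el_nil), map_one]
      exact one_mem _
    | cons g w ih =>
      rw [okC_cons] at hw
      have hg1 : CTab.okC [g] = true := by simp [CTab.okC, hw.1]
      rw [show x = ⟨el [g], el_mem hg1⟩ * ⟨el w, el_mem hw.2⟩ from Subtype.ext (hxw.symm.trans (el_cons g w)),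
        map_mul]
      refine mul_mem ?_ (ih _ hw.2 rfl)
      obtain ⟨i, hi | hi⟩ := hG g hw.1
      · rw [phi_gen hS i hi hg1]; exact Subgroup.subset_closure ⟨i, rfl⟩
      · have hg2 : CTab.okC [ExactCover.flip g] = true := okC_invWord hg1
        rw [show (⟨el [g], el_mem hg1⟩ : C0) = (⟨el [ExactCover.flip g], el_mem hg2⟩ : C0)⁻¹ from
          Subtype.ext (by show el [g] = (el [ExactCover.flip g])⁻¹; rw [ThDce.el_flip, inv_inv]), map_inv, phi_gen hS i hi hg2]
        exact inv_mem (Subgroup.subset_closure ⟨i, rfl⟩)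
  · rintro _ ⟨i, rfl⟩
    have hok : CTab.okC [G7.getD i.1 0] = true := by
      revert i; decide
    exact ⟨_, phi_gen hS i rfl hok⟩

/-- The kernel. -/
noncomputable abbrev Qs : Subgroup C0 := (phi hS).ker

theorem card_Qs : Nat.card (Qs hS) = 512 := by
  have h := (phi hS).ker.card_mul_index
  rw [Subgroup.index_ker, range_phi hS, card_wg, card_C0 hS] at h
  exact mul_right_cancel₀ (by norm_num : (181440 : ℕ) ≠ 0) (h.trans (by norm_num))

omit hS in
theorem qGen_ok (k : ℕ) : okH (Data.qWords.getD k []) = true ∧ CTab.okC (Data.qWords.getD k []) = true ∧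
    ∀ j < 120, (Tb.run (invWord (Data.qWords.getD k [])) j).1 = j := by
  by_cases hk : k < 9
  · have h := allBelow_iff.1 qWords_ok k hk
    simp only [Bool.and_eq_true] at h
    exact ⟨h.1.1, h.1.2, fun j hj => Nat.eq_of_beq_eq_true (allBelow_iff.1 h.2 j hj)⟩
  · have hl : Data.qWords.length = 9 := by decide +kernel
    rw [List.getD_eq_default _ _ (by omega)]
    exact ⟨by decide +kernel, rfl, fun j _ => rfl⟩

omit hS in
theorem qWord_okC (m : ℕ) : CTab.okC (qWord m) = true := by
  unfold qWord
  generalize List.range 9 = l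
  induction l with
  | nil => rfl
  | cons k l ih =>
    rw [List.flatMap_cons]
    refine okC_append ?_ ih
    cases Nat.beq (Nat.mod (Nat.shiftRight m k) 2) 1
    · rfl
    · exact (qGen_ok k).2.1

omit hS in
theorem qWord_okP (m : ℕ) : okP (qWord m) = true := by
  unfold qWord
  generalize List.range 9 = l
  induction l with
  | nil => rfl
  | cons k l ih =>
    rw [List.flatMap_cons]
    refine ThDce.okP_append ?_ ih
    cases Nat.beq (Nat.mod (Nat.shiftRight m k) 2) 1
    · rfl
    · exact okH_okP (qGen_ok k).1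

theorem gen_mem_Qs (k : ℕ) : (⟨el (Data.qWords.getD k []), el_mem (qGen_ok k).2.1⟩ : C0) ∈ Qs hS := by
  rw [MonoidHom.mem_ker]
  refine Equiv.ext fun j => Fin.ext ?_
  rw [phi_word hS (qGen_ok k).2.1 j]
  exact (qGen_ok k).2.2 j.1 j.2

theorem qv_mem (m : ℕ) : (⟨el (qWord m), el_mem (qWord_okC m)⟩ : C0) ∈ Qs hS := by
  have key : ∀ l : List ℕ, ∀ x : C0, x.1 = el (l.flatMap fun k =>
      bif Nat.beq (Nat.mod (Nat.shiftRight m k) 2) 1 then Data.qWords.getD k [] else []) → x ∈ Qs hS := by
    intro l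
    induction l with
    | nil =>
      intro x hx
      rw [show x = 1 from Subtype.ext (hx.trans el_nil)]
      exact one_mem _
    | cons k l ih =>
      intro x hx
      rw [List.flatMap_cons] at hx
      cases hb : Nat.beq (Nat.mod (Nat.shiftRight m k) 2) 1
      · rw [hb, cond_false, List.nil_append] at hx
        exact ih x hx
      · rw [hb, cond_true, el_append] at hx
        have hm := ih ((⟨el (Data.qWords.getD k []), el_mem (qGen_ok k).2.1⟩ : C0)⁻¹ * x) (by
          rw [Subgroup.coe_mul, Subgroup.coe_inv, hx, inv_mul_cancel_left])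
        have := mul_mem (gen_mem_Qs hS k) hm
        rwa [mul_inv_cancel_left] at this
  exact key (List.range 9) _ rfl

theorem Qs_cases (x : Qs hS) : ∃ m ∈ Data.qOrder, x.1.1 = el (qWord m) := by
  have ho := qOrder_ok
  simp only [Bool.and_eq_true, Nat.beq_eq] at ho
  obtain ⟨⟨hlen, -⟩, hinc⟩ := ho
  let f : Fin 512 → Qs hS := fun j => ⟨⟨el (qWord (Data.qOrder.getD j.1 0)), el_mem (qWord_okC _)⟩, qv_mem hS _⟩
  have hf : Function.Injective f := by
    intro i j h
    have h' : el (qWord (Data.qOrder.getD i.1 0)) = el (qWord (Data.qOrder.getD j.1 0)) :=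
      congrArg (fun y : Qs hS => y.1.1) h
    rw [el_eq_toTh _ (qWord_okP _), el_eq_toTh _ (qWord_okP _)] at h'
    have hk := key_congr (qWord_okP _) (qWord_okP _) (hS.κ_inj h')
    have hnd := (increasing_pairwise hinc).imp (fun h => Nat.ne_of_lt h)
    have hi : i.1 < Data.qOrder.length := by rw [hlen]; exact i.2
    have hj : j.1 < Data.qOrder.length := by rw [hlen]; exact j.2
    rw [List.getD_eq_getElem _ _ hi, List.getD_eq_getElem _ _ hj] at hk
    refine Fin.ext ((List.Nodup.getElem_inj_iff (h := hnd) (i := i.1) (j := j.1)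
      (hi := by rwa [List.length_map]) (hj := by rwa [List.length_map])).1 ?_)
    rw [List.getElem_map, List.getElem_map]
    exact hk
  haveI : Finite (Qs hS) := Nat.finite_of_card_ne_zero (by rw [card_Qs hS]; norm_num)
  obtain ⟨j, rfl⟩ := ((Nat.bijective_iff_injective_and_card f).2
    ⟨hf, by rw [Nat.card_fin, card_Qs hS]⟩).2 x
  refine ⟨_, ?_, rfl⟩
  rw [List.getD_eq_getElem _ _ (by rw [hlen]; exact j.2)]
  exact List.getElem_mem _

theorem Qs_extraspecial (hz : orderOf (el [0]) = 2) : Cfsg.IsExtraspecial 2 (Qs hS) := by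
  haveI : Finite (Qs hS) := Nat.finite_of_card_ne_zero (by rw [card_Qs hS]; norm_num)
  have h01 := qWord_one
  rw [Bool.and_eq_true] at h01
  have e1 := ThDce.leq_eq h01.1
  have e0 := ThDce.leq_eq h01.2
  let z : Qs hS := ⟨⟨el (qWord 1), el_mem (qWord_okC 1)⟩, qv_mem hS 1⟩
  have hzv : z.1.1 = el [0] := by show el (qWord 1) = _; rw [e1]
  have hval : ∀ x : Qs hS, ∀ y : Qs hS, x.1.1 = y.1.1 → x = y := fun x y h => Subtype.ext (Subtype.ext h)
  refine isExtraspecial_two (IsPGroup.of_card (n := 9) (by rw [card_Qs hS]; norm_num)) (z := z) ?_ ?_ ?_ ?_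
  · rw [← Subgroup.orderOf_coe, ← Subgroup.orderOf_coe, hzv, hz]
  · intro x
    constructor
    · intro hx
      obtain ⟨m, hm, em⟩ := Qs_cases hS x
      have h := List.all_eq_true.1 qCentre_ok m hm
      simp only [Bool.or_eq_true, Nat.beq_eq, List.any_eq_true, Bool.not_eq_true'] at h
      rcases h with (rfl | rfl) | ⟨k, -, hk⟩
      · exact Or.inl (hval _ _ (by rw [em, e0, el_nil]; rfl))
      · exact Or.inr (hval _ _ em)
      · exfalso
        let q : Qs hS := ⟨⟨el (Data.qWords.getD k []), el_mem (qGen_ok k).2.1⟩, gen_mem_Qs hS k⟩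
        have hc : el (qWord m) * el (Data.qWords.getD k []) = el (Data.qWords.getD k []) * el (qWord m) := by
          have := congrArg (fun y : Qs hS => y.1.1) (Subgroup.mem_center_iff.1 hx q)
          simp only [Subgroup.coe_mul] at this
          rw [em] at this
          exact this.symm
        rw [← el_append, ← el_append,
          el_eq_toTh _ (ThDce.okP_append (qWord_okP m) (okH_okP (qGen_ok k).1)),
          el_eq_toTh _ (ThDce.okP_append (okH_okP (qGen_ok k).1) (qWord_okP m))] at hc
        have := ThDce.wordEq_of_val (ThDce.okP_append (qWord_okP m) (okH_okP (qGen_ok k).1))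
          (ThDce.okP_append (okH_okP (qGen_ok k).1) (qWord_okP m)) (hS.κ_inj hc)
        rw [hk] at this
        exact Bool.false_ne_true this
    · rintro (rfl | rfl)
      · exact one_mem _
      · rw [Subgroup.mem_center_iff]
        intro y
        refine hval _ _ ?_
        simp only [Subgroup.coe_mul, hzv]
        exact Subgroup.mem_centralizer_singleton_iff.1 (C0_le y.1.2)
  · intro x
    obtain ⟨m, hm, em⟩ := Qs_cases hS x
    have h := List.all_eq_true.1 qSquare_ok m hm
    rw [Bool.or_eq_true] at h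
    have hmm := ThDce.okP_append (qWord_okP m) (qWord_okP m)
    have key : ∀ v : List ℕ, okP v = true → ThP.wordEq (qWord m ++ qWord m) v = true →
        el (qWord m) * el (qWord m) = el v := fun v hv he => by
      rw [← el_append, el_eq_toTh _ hmm, el_eq_toTh _ hv,
        ThP.wordEq_sound _ _ (okP_iff.1 hmm) (okP_iff.1 hv) he]
    rcases h with h | h
    · exact Or.inl (hval _ _ (by simp only [Subgroup.coe_mul, em]; rw [key [] rfl h, el_nil]; rfl))
    · exact Or.inr (hval _ _ (by simp only [Subgroup.coe_mul, em]; rw [key [0] rfl h, hzv]))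
  · rw [card_Qs hS]; norm_num

theorem structure_C0 (hz : orderOf (el [0]) = 2) : ∃ (Q : Subgroup C0) (_ : Q.Normal), Nat.card Q = 2 ^ 9 ∧
    Cfsg.IsExtraspecial 2 Q ∧ Nonempty (C0 ⧸ Q ≃* alternatingGroup (Fin 9)) := by
  obtain ⟨e⟩ := exists_iso
  exact ⟨Qs hS, inferInstance, by rw [card_Qs hS]; norm_num, Qs_extraspecial hS hz,
    ⟨(QuotientGroup.quotientKerEquivRange (phi hS)).trans ((MulEquiv.subgroupCongr (range_phi hS)).trans e)⟩⟩

end Cfsg.Agent.Lib.ThCent
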