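import Cfsg.Agent.Lib.ThCent.Fix
import Cfsg.Agent.Lib.ThCent.Quot
import Cfsg.Agent.Lib.ThDce.Final

/-!
The centraliser of the first generator of the presented Thompson group is `2^(1+8).A₉`.
-/

set_option autoImplicit false
set_option maxRecDepth 20000

namespace Cfsg.Agent.Lib.ThCent

open Cfsg.Agent.Lib.CosetEnum Cfsg.Agent.Lib.ExactCover
open Cfsg.Agent.Lib.ThDce (okP okP_iff el el_eq_toTh el_nil G pSide cSide_sep)

/-- The certificate. -/
noncomputable abbrev F : ThDce.Cert := ThDce.Data.cert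

theorem sep : (ThDce.cSide Tb Tb_ok).Sep :=
  cSide_sep _ ThDce.Data.seg_ok ThDce.Data.pair_ok ThDce.uOut

theorem nodes_len : F.C.nodes.length = 11 := by rw [ThDce.Data.cert_C]; decide

theorem stab0 : pSide.stab (F.C.vtx (F.nd 0)) = ⊤ := F.base_stab ThDce.Data.prim_ok'

/-- The orders of the node stabilisers. -/
def stabOrders : List ℕ := [634023936, 36864, 13824, 288, 486, 126, 78, 54, 6, 72, 3528]

/-- The bounds on the fixed points at the nodes. -/
def fixBounds : List ℕ := [1, 1071, 1064, 8064, 0, 0, 0, 0, 0, 0, 0]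

theorem card_node : ∀ i < 11, Nat.card (pSide.stab (F.C.vtx (F.nd i))) = stabOrders.getD i 0 := by
  intro i hi
  interval_cases i
  · rw [stab0, Subgroup.card_top, ThP.card_P]; rfl
  exacts [ThDce.Data.card1, ThDce.Data.card2, ThDce.Data.card3, ThDce.Data.card4, ThDce.Data.card5,
    ThDce.Data.card6, ThDce.Data.card7, ThDce.Data.card8, ThDce.Data.card9, ThDce.Data.card10]

theorem fstab19 : ThDce.Side.fstab F.C.FN 19 = ⊥ := by
  rw [← Subgroup.card_eq_one]
  have h : ThDce.Data.count3.check F.C = true := by rw [ThDce.Data.cert_C]; exact ThDce.Data.count3_ok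
  have hf : ThDce.Data.count3.f = 19 := by decide +kernel
  have e : ThDce.Data.count3.els.length = 1 := by decide +kernel
  have h' := (F.card_fstab h).trans e
  rwa [hf] at h' 

theorem fixBounds_ok : (allBelow 11 fun i => Nat.beq i 0 ||
    Nat.beq ((Data.nodeB.getD i []).length * 774144) (fixBounds.getD i 0 * stabOrders.getD i 0)) = true := by
  decide +kernel

theorem card_fixNode : ∀ i < 11, Nat.card (fixNode F i) ≤ fixBounds.getD i 0 := by
  intro i hi
  rcases Nat.eq_zero_or_pos i with rfl | hpos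
  · refine le_trans (Nat.card_le_card_of_injective _ Subtype.val_injective) ?_
    show Subgroup.index _ ≤ 1
    rw [stab0, Subgroup.index_top]
  · have h0 : Nat.beq i 0 = false := Bool.eq_false_iff.2 fun e => by rw [Nat.beq_eq] at e; omega
    have hc : nodeCheck F.C i = true := by rw [ThDce.Data.cert_C]; exact nodeCheck_all i hpos hi
    have hi' : i < F.C.nodes.length := by rw [nodes_len]; exact hi
    have h := fixNode_le F hi' fstab19 hc h0
    have hb := allBelow_iff.1 fixBounds_ok i hi
    rw [h0, Bool.false_or, Nat.beq_eq] at hb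
    rw [hb, card_node i hi, Nat.mul_comm (fixBounds.getD i 0)] at h
    refine Nat.le_of_mul_le_mul_left h ?_
    interval_cases i <;> decide

theorem toTh_bijective : Function.Bijective F.toCoset :=
  F.toCoset_bijective ThDce.sepData ThDce.Data.back_ok' ThDce.Data.prim_ok'

theorem card_fixed : Nat.card {c : G ⧸ ThP.toTh.range // zT • c = c} ≤ 10200 := by
  have hz : (ThP.toTh (ThP.val [0]))⁻¹ = zT⁻¹ := by rw [← el_eq_toTh [0] rfl]
  have e : Nat.card {x : F.XPt // F.right (ThP.val [0]) x = x} =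
      Nat.card {c : G ⧸ ThP.toTh.range // zT • c = c} := by
    refine Nat.card_congr ((Equiv.ofBijective _ toTh_bijective).subtypeEquiv fun x => ?_)
    rw [← toTh_bijective.1.eq_iff, F.toCoset_right, hz, inv_smul_eq_iff, Equiv.ofBijective_apply, eq_comm]
  have e' : {x : F.XPt // F.right (ThP.val [0]) x = x} ≃ Σ i : Fin F.C.nodes.length, ↥(fixNode F i.1) :=
    { toFun := fun x => ⟨x.1.1, ⟨x.1.2, by
        obtain ⟨⟨i, q⟩, hx⟩ := x
        exact eq_of_heq (Sigma.mk.inj hx).2⟩⟩
      invFun := fun p => ⟨⟨p.1, p.2.1⟩, Sigma.ext rfl (heq_of_eq p.2.2)⟩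
      left_inv := fun x => rfl
      right_inv := fun p => rfl }
  rw [← e, Nat.card_congr e', Nat.card_sigma]
  refine le_trans (Finset.sum_le_sum fun i _ => card_fixNode i.1 (nodes_len ▸ i.2)) ?_
  rw [Fin.sum_univ_eq_sum_range (fun i => fixBounds.getD i 0), nodes_len]
  decide

theorem order_z : orderOf zT = 2 := by
  have h2 : zT ^ 2 = 1 := by
    rw [sq, ← ThDce.el_append]
    exact ThDce.el_rel (by decide +kernel)
  refine orderOf_eq_prime (hp := ⟨Nat.prime_two⟩) h2 fun h1 => ?_
  have h := ThDce.toTh_inj (a₁ := ThP.val [0]) (a₂ := 1) (by rw [map_one, ← el_eq_toTh [0] rfl]; exact h1)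
  have hc := card_fix_word (l := [0]) rfl a_fix
  rw [h] at hc
  simp [fixSet] at hc

theorem centralizer_eq : Subgroup.centralizer ({zT} : Set G) = C0 := by
  haveI : Finite G := ThDce.finite_Th
  have h := card_centralizer_mul_le (ThDce.toTh_inj) card_fixed
  have h0 := card_C0 sep
  refine (Subgroup.eq_of_le_of_card_ge C0_le ?_).symm
  obtain ⟨k, hk⟩ := Subgroup.card_dvd_of_le C0_le
  rw [hk, h0] at h ⊢
  have hk0 : k ≠ 0 := fun e => by
    rw [e, Nat.mul_zero] at hk
    exact Nat.card_pos.ne' hk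
  rcases Nat.lt_or_ge k 2 with hlt | hge
  · interval_cases k
    · exact absurd rfl hk0
    · simp
  · exfalso
    have : 92897280 * 2 * 35399 ≤ 92897280 * k * 35399 :=
      Nat.mul_le_mul_right _ (Nat.mul_le_mul_left _ hge)
    omega

/-- The statement. -/
theorem thompson_centralizer : ∃ (G : Type) (_ : Group G) (_ : Finite G), Cfsg.IsTh G ∧ ∃ z : G, orderOf z = 2 ∧
    ∃ (Q : Subgroup (Subgroup.centralizer ({z} : Set G))) (_ : Q.Normal), Nat.card Q = 2 ^ 9 ∧
      Cfsg.IsExtraspecial 2 Q ∧
      Nonempty ((Subgroup.centralizer ({z} : Set G)) ⧸ Q ≃* alternatingGroup (Fin 9)) := by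
  refine ⟨G, inferInstance, ThDce.finite_Th, ThDce.isTh_Th, zT, order_z, ?_⟩
  rw [centralizer_eq]
  exact structure_C0 sep order_z

end Cfsg.Agent.Lib.ThCent
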